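import Groth.Prelude.Def_W4c5qllcourbesmultMultCrv
import Mathlib

/-! The Frobenius structure of `R[X]/(X^n)` over `R`. -/

universe u v

namespace Groth.Agent.MultCrvLib

open Polynomial MultCrv

variable {R : Type u} [CommRing R] {n : ℕ}

theorem z_pow_eq_zero : z R n ^ n = 0 := by
  rw [← map_pow, Ideal.Quotient.eq_zero_iff_mem]
  exact Ideal.mem_span_singleton_self _

theorem z_pow_eq_zero_of_le {m : ℕ} (h : n ≤ m) : z R n ^ m = 0 :=
  pow_eq_zero_of_le h z_pow_eq_zero

theorem algebraMap_eq (r : R) : algebraMap R (Rn R n) r = Ideal.Quotient.mk _ (C r) := rfl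

theorem mk_eq_sum (p : R[X]) :
    Ideal.Quotient.mk (Ideal.span {(X : R[X]) ^ n}) p =
      ∑ i ∈ Finset.range (p.natDegree + 1), algebraMap R (Rn R n) (p.coeff i) * z R n ^ i := by
  conv_lhs => rw [p.as_sum_range_C_mul_X_pow]
  rw [map_sum]
  exact Finset.sum_congr rfl fun i _ => by rw [map_mul, map_pow]; rfl

/-- The top coefficient. -/
noncomputable def lam (n : ℕ) : Rn R n →ₗ[R] R :=
  Submodule.liftQ ((Ideal.span {(X : R[X]) ^ n}).restrictScalars R)
    (if n = 0 then 0 else lcoeff R (n - 1)) (fun p hp => by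
    split
    next h => simp
    next h =>
      obtain ⟨q, rfl⟩ := Ideal.mem_span_singleton.1 hp
      rw [LinearMap.mem_ker, lcoeff_apply, coeff_X_pow_mul', if_neg (by omega)])

theorem lam_mk (hn : 1 ≤ n) (p : R[X]) : lam n (Ideal.Quotient.mk _ p) = p.coeff (n - 1) := by
  change (if n = 0 then (0 : R[X] →ₗ[R] R) else lcoeff R (n - 1)) p = _
  rw [if_neg (by omega), lcoeff_apply]

theorem lam_smul_z_pow (hn : 1 ≤ n) (r : R) (i : ℕ) :
    lam n (algebraMap R (Rn R n) r * z R n ^ i) = if i = n - 1 then r else 0 := by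
  rw [algebraMap_eq, ← map_pow, ← map_mul, lam_mk hn, coeff_C_mul, coeff_X_pow]
  by_cases h : i = n - 1
  · subst h; simp
  · rw [if_neg h, if_neg (Ne.symm h), mul_zero]

theorem sum_lam (hn : 1 ≤ n) (a : Rn R n) :
    ∑ j ∈ Finset.range n, algebraMap R (Rn R n) (lam n (z R n ^ (n - 1 - j) * a)) * z R n ^ j = a := by
  obtain ⟨p, rfl⟩ := Ideal.Quotient.mk_surjective a
  rw [mk_eq_sum p]
  simp only [Finset.mul_sum, map_sum, Finset.sum_mul]
  rw [Finset.sum_comm]
  refine Finset.sum_congr rfl fun i _ => ?_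
  by_cases hi : i < n
  · rw [Finset.sum_eq_single i]
    · rw [mul_left_comm, ← pow_add, lam_smul_z_pow hn, if_pos (by omega)]
    · intro j hj hji
      rw [Finset.mem_range] at hj
      rw [mul_left_comm, ← pow_add, lam_smul_z_pow hn, if_neg (by omega), map_zero, zero_mul]
    · intro h; exact absurd (Finset.mem_range.2 hi) h
  · rw [Finset.sum_eq_zero, z_pow_eq_zero_of_le (m := i) (by omega), mul_zero]
    intro j _
    rw [mul_left_comm, ← pow_add, z_pow_eq_zero_of_le (m := n - 1 - j + i) (by omega), mul_zero,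
      map_zero, map_zero, zero_mul]

variable {M : Type v} [AddCommGroup M] [Module (Rn R n) M] [Module R M] [IsScalarTower R (Rn R n) M]

theorem smul_eq (r : R) (m : M) : algebraMap R (Rn R n) r • m = r • m :=
  algebraMap_smul _ _ _

theorem z_pow_smul {N : Type*} [AddCommGroup N] [Module (Rn R n) N] {m : ℕ} (h : n ≤ m) (u : N) :
    z R n ^ m • u = 0 := by
  have h0 : z R n ^ m = (0 : Rn R n) := z_pow_eq_zero_of_le h
  exact (congrArg (fun c : Rn R n => c • u) h0).trans (zero_smul (Rn R n) u)

/-- The `A`-linear form attached to an `R`-linear form. -/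
noncomputable def ofR (hn : 1 ≤ n) (g : M →ₗ[R] R) : M →ₗ[Rn R n] Rn R n where
  toFun m := ∑ j ∈ Finset.range n, algebraMap R (Rn R n) (g (z R n ^ (n - 1 - j) • m)) * z R n ^ j
  map_add' x y := by simp only [smul_add, map_add, add_mul, Finset.sum_add_distrib]
  map_smul' a m := by
    have key : ∀ (i : ℕ), ∑ j ∈ Finset.range n,
        algebraMap R (Rn R n) (g (z R n ^ (n - 1 - j) • z R n ^ i • m)) * z R n ^ j =
        z R n ^ i * ∑ j ∈ Finset.range n,
          algebraMap R (Rn R n) (g (z R n ^ (n - 1 - j) • m)) * z R n ^ j := by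
      intro i
      induction i with
      | zero => simp
      | succ i ih =>
        rw [pow_succ' (z R n) i, mul_assoc, ← ih, Finset.mul_sum]
        obtain ⟨k, rfl⟩ : ∃ k, n = k + 1 := ⟨n - 1, by omega⟩
        rw [Finset.sum_range_succ', Finset.sum_range_succ]
        have h0 : algebraMap R (Rn R (k + 1))
            (g (z R (k + 1) ^ (k + 1 - 1 - 0) • (z R (k + 1) * z R (k + 1) ^ i) • m)) * z R (k + 1) ^ 0 = 0 := by
          rw [show (z R (k + 1) ^ (k + 1 - 1 - 0)) • (z R (k + 1) * z R (k + 1) ^ i) • m = 0 from ?_,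
            map_zero, map_zero, zero_mul]
          rw [smul_smul, ← pow_succ', ← pow_add]
          exact (congrArg (fun c : Rn R (k + 1) => c • m) (z_pow_eq_zero_of_le (R := R) (by omega))).trans
            (zero_smul (Rn R (k + 1)) m)
        rw [h0, add_zero, mul_left_comm (z R (k + 1)) (algebraMap R _ _) (z R (k + 1) ^ k),
          ← pow_succ' (z R (k + 1)) k, z_pow_eq_zero_of_le le_rfl, mul_zero, add_zero]
        refine Finset.sum_congr rfl fun j hj => ?_
        rw [Finset.mem_range] at hj
        rw [mul_left_comm, ← pow_succ', smul_smul, smul_smul, ← pow_add, ← pow_add,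
          show k + 1 - 1 - (j + 1) + (i + 1) = k + 1 - 1 - j + i by omega]
        rw [← pow_succ' (z R (k + 1)) j]
    obtain ⟨p, rfl⟩ := Ideal.Quotient.mk_surjective a
    rw [mk_eq_sum p, RingHom.id_apply, smul_eq_mul, Finset.sum_mul]
    simp only [Finset.smul_sum, map_sum, Finset.sum_smul, Finset.sum_mul]
    rw [Finset.sum_comm]
    refine Finset.sum_congr rfl fun i _ => ?_
    rw [mul_assoc, ← key i, Finset.mul_sum]
    refine Finset.sum_congr rfl fun j _ => ?_
    rw [mul_smul, smul_comm (z R n ^ (n - 1 - j)), smul_eq, map_smul, smul_eq_mul, map_mul, mul_assoc]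

theorem ofR_apply (hn : 1 ≤ n) (g : M →ₗ[R] R) (m : M) :
    ofR hn g m = ∑ j ∈ Finset.range n, algebraMap R (Rn R n) (g (z R n ^ (n - 1 - j) • m)) * z R n ^ j := rfl

theorem lam_ofR (hn : 1 ≤ n) (g : M →ₗ[R] R) (m : M) : lam n (ofR hn g m) = g m := by
  rw [ofR_apply, map_sum, Finset.sum_eq_single (n - 1)]
  · rw [lam_smul_z_pow hn, if_pos rfl, Nat.sub_self, pow_zero, one_smul]
  · intro j hj hne
    rw [lam_smul_z_pow hn, if_neg hne]
  · intro h; exact absurd (Finset.mem_range.2 (by omega)) h

/-- `A`-linear forms are `R`-linear forms, via the top coefficient. -/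
noncomputable def dualEquiv (hn : 1 ≤ n) : (M →ₗ[Rn R n] Rn R n) ≃+ (M →ₗ[R] R) where
  toFun f := (lam n).comp (f.restrictScalars R)
  invFun g := ofR hn g
  left_inv f := by
    ext m
    rw [ofR_apply]
    conv_rhs => rw [← sum_lam hn (f m)]
    refine Finset.sum_congr rfl fun j _ => ?_
    rw [LinearMap.comp_apply, LinearMap.restrictScalars_apply, map_smul, smul_eq_mul]
  right_inv g := by ext m; exact lam_ofR hn g m
  map_add' f g := by ext m; simp

theorem finite_R (hn : 1 ≤ n) [Module.Finite (Rn R n) M] : Module.Finite R M := by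
  haveI : Module.Finite R (Rn R n) := (monic_X_pow (R := R) n).finite_quotient
  exact Module.Finite.trans (Rn R n) M

theorem eval_bijective_iff (hn : 1 ≤ n) :
    Module.IsReflexive (Rn R n) M ↔ Module.IsReflexive R M := by
  let e : (M →ₗ[Rn R n] Rn R n) ≃ₗ[R] (M →ₗ[R] R) :=
    { dualEquiv (M := M) hn with
      map_smul' := fun r f => by
        ext m
        change lam n ((r • f) m) = r • lam n (f m)
        rw [LinearMap.smul_apply, map_smul] }
  let Φ : ((M →ₗ[Rn R n] Rn R n) →ₗ[Rn R n] Rn R n) → ((M →ₗ[R] R) →ₗ[R] R) := fun F =>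
    (dualEquiv hn F).comp e.symm.toLinearMap
  have hΦ : Function.Bijective Φ := by
    constructor
    · intro F G h
      apply (dualEquiv hn).injective
      ext f
      have := LinearMap.congr_fun h (e f)
      simpa [Φ] using this
    · intro G
      refine ⟨(dualEquiv hn).symm (G.comp e.toLinearMap), ?_⟩
      ext f
      simp [Φ]
  have key : ⇑(Module.Dual.eval R M) = Φ ∘ ⇑(Module.Dual.eval (Rn R n) M) := by
    funext m
    ext g
    change g m = lam n (ofR hn g m)
    rw [lam_ofR]
  constructor <;> intro h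
  · exact ⟨key ▸ hΦ.comp h.bijective_dual_eval'⟩
  · exact ⟨(Function.Bijective.of_comp_iff' hΦ _).1 (key ▸ h.bijective_dual_eval')⟩

theorem free_quotient [IsDomain R] [IsPrincipalIdealRing R] (hn : 1 ≤ n) [Module.Finite (Rn R n) M]
    (P Q : Submodule (Rn R n) M) (h : ∀ (r : R) (v : M), r ≠ 0 → v ∈ P → r • v ∈ Q → v ∈ Q) :
    Module.Free R (↥P ⧸ Q.comap P.subtype) := by
  haveI := finite_R (R := R) (M := M) hn
  haveI : IsNoetherian R M := isNoetherian_of_isNoetherianRing_of_finite R M
  haveI : Module.Finite R P := Module.Finite.of_injective (P.subtype.restrictScalars R) Subtype.val_injective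
  let q : P →ₗ[R] (↥P ⧸ Q.comap P.subtype) := (Submodule.mkQ (Q.comap P.subtype)).restrictScalars R
  haveI : Module.Finite R (↥P ⧸ Q.comap P.subtype) :=
    Module.Finite.of_surjective q (Submodule.mkQ_surjective _)
  haveI : Module.IsTorsionFree R (↥P ⧸ Q.comap P.subtype) := by
    refine Module.IsTorsionFree.mk fun r hr => ?_
    rw [isSMulRegular_iff_right_eq_zero_of_smul]
    intro y hy
    obtain ⟨v, rfl⟩ := Submodule.Quotient.mk_surjective _ y
    rw [← Submodule.Quotient.mk_smul, Submodule.Quotient.mk_eq_zero] at hy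
    rw [Submodule.Quotient.mk_eq_zero]
    exact h r v hr.ne_zero v.2 hy
  infer_instance

theorem filt2_restrictScalars (i : ℕ) :
    (filt2 R n M i).restrictScalars R = LinearMap.ker ((z R n ^ i • (LinearMap.id : M →ₗ[Rn R n] M)).restrictScalars R) := by
  ext m
  rfl

theorem finrank_G2_eq_G1 [IsDomain R] [IsNoetherianRing R] (hn : 1 ≤ n) [Module.Finite (Rn R n) M] (i : ℕ) :
    Module.finrank R (G2 R n M (i + 1)) = Module.finrank R (G1 R n M i) := by
  haveI := finite_R (R := R) (M := M) hn
  haveI : IsNoetherian R M := isNoetherian_of_isNoetherianRing_of_finite R M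
  have hle : filt2 R n M i ≤ filt2 R n M (i + 1) := fun m hm => by
    change z R n ^ i • m = 0 at hm
    change z R n ^ (i + 1) • m = 0
    rw [pow_succ', mul_smul, hm, smul_zero]
  have hle' : filt R n M (i + 1) ≤ filt R n M i := by
    rintro _ ⟨m, rfl⟩
    exact ⟨z R n • m, by simp [smul_smul, pow_succ, mul_comm]⟩
  have key : ∀ (P Q : Submodule (Rn R n) M), Q ≤ P →
      Module.finrank R (↥P ⧸ Q.comap P.subtype) + Module.finrank R Q = Module.finrank R P := by
    intro P Q hQ
    haveI : Module.Finite R P := Module.Finite.of_injective (P.subtype.restrictScalars R) Subtype.val_injective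
    have h := ((Q.comap P.subtype).restrictScalars R).finrank_quotient_add_finrank
    rw [show Module.finrank R ((Q.comap P.subtype).restrictScalars R) = Module.finrank R Q from
      ((Submodule.comapSubtypeEquivOfLe hQ).restrictScalars R).finrank_eq] at h
    rw [← h]
    congr 1
  have hrn : ∀ j, Module.finrank R (filt R n M j) + Module.finrank R (filt2 R n M j) = Module.finrank R M := by
    intro j
    set F := (z R n ^ j • (LinearMap.id : M →ₗ[Rn R n] M)).restrictScalars R
    have h := (LinearMap.ker F).finrank_quotient_add_finrank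
    rw [F.quotKerEquivRange.finrank_eq] at h
    exact h
  have h1 := key (filt2 R n M (i + 1)) (filt2 R n M i) hle
  have h2 := key (filt R n M i) (filt R n M (i + 1)) hle'
  have h3 := hrn i
  have h4 := hrn (i + 1)
  change Module.finrank R (↥(filt2 R n M (i + 1)) ⧸ Submodule.comap (filt2 R n M (i + 1)).subtype
    (filt2 R n M i)) = _
  change _ = Module.finrank R (↥(filt R n M i) ⧸ Submodule.comap (filt R n M i).subtype
    (filt R n M (i + 1)))
  omega

end Groth.Agent.MultCrvLib
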