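import Groth.Agent.MultCrvLib.Basic

/-! `Ext` into `R[X]/(X^n)` of `R`-torsion-free modules. -/

universe u

namespace Groth.Agent.MultCrvLib

open MultCrv CategoryTheory Abelian

variable {R : Type u} [CommRing R] [IsDomain R] [IsPrincipalIdealRing R] {n : ℕ}

theorem dualMap_surjective (hn : 1 ≤ n) {M' M M'' : Type u} [AddCommGroup M'] [Module (Rn R n) M']
    [AddCommGroup M] [Module (Rn R n) M] [Module R M] [IsScalarTower R (Rn R n) M]
    [AddCommGroup M''] [Module (Rn R n) M''] [Module R M''] [IsScalarTower R (Rn R n) M'']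
    [Module.Finite (Rn R n) M''] [Module.IsTorsionFree R M'']
    (f : M' →ₗ[Rn R n] M) (g : M →ₗ[Rn R n] M'') (hf : Function.Injective f)
    (hg : Function.Surjective g) (hfg : LinearMap.range f = LinearMap.ker g) :
    Function.Surjective (f.dualMap : Module.Dual (Rn R n) M →ₗ[Rn R n] Module.Dual (Rn R n) M') := by
  letI : Module R M' := Module.compHom M' (algebraMap R (Rn R n))
  haveI : IsScalarTower R (Rn R n) M' := ⟨fun r a m => by
    change (r • a) • m = algebraMap R (Rn R n) r • (a • m)
    exact (congrArg (fun c : Rn R n => c • m) (Algebra.smul_def r a)).trans (mul_smul _ _ _)⟩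
  haveI := finite_R (R := R) (n := n) (M := M'') hn
  haveI : Module.Free R M'' := inferInstance
  obtain ⟨s, hs⟩ := Module.projective_lifting_property (g.restrictScalars R) LinearMap.id hg
  intro φ
  let φR := dualEquiv (R := R) hn φ
  have hmem : ∀ m : M, m - s (g m) ∈ LinearMap.range f := fun m => by
    rw [hfg, LinearMap.mem_ker, map_sub, sub_eq_zero]
    exact (LinearMap.congr_fun hs (g m)).symm
  let e := LinearEquiv.ofInjective f hf
  let p : M →ₗ[R] M' := (e.symm.toLinearMap.restrictScalars R).comp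
    (((LinearMap.id - s.comp (g.restrictScalars R)).codRestrict ((LinearMap.range f).restrictScalars R) hmem :
      M →ₗ[R] ↥((LinearMap.range f).restrictScalars R)))
  have hp : ∀ x, p (f x) = x := fun x => hf (by
    have h1 : ∀ y, f (p y) = y - s (g y) := fun y => by
      change f (e.symm ⟨y - s (g y), hmem y⟩) = _
      exact congrArg Subtype.val (e.apply_symm_apply ⟨y - s (g y), hmem y⟩)
    have h2 : g (f x) = 0 := by
      rw [← LinearMap.mem_ker, ← hfg]; exact LinearMap.mem_range_self f x
    rw [h1, h2, map_zero, sub_zero])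
  refine ⟨(dualEquiv (R := R) hn).symm (φR.comp p), ?_⟩
  apply (dualEquiv (R := R) hn).injective
  ext x
  change lam n (((dualEquiv (R := R) hn).symm (φR.comp p)) (f x)) = _
  refine (lam_ofR hn (φR.comp p) (f x)).trans ?_
  rw [LinearMap.comp_apply, hp]

theorem isTorsionFree_Rn (hn : 1 ≤ n) : Module.IsTorsionFree R (Rn R n) := by
  refine Module.IsTorsionFree.mk fun c hc => ?_
  rw [isSMulRegular_iff_right_eq_zero_of_smul]
  intro a ha
  rw [← sum_lam hn a]
  refine Finset.sum_eq_zero fun j _ => ?_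
  have : c * lam n (z R n ^ (n - 1 - j) * a) = 0 := by
    rw [← smul_eq_mul, ← map_smul, ← mul_smul_comm, ha, mul_zero, map_zero]
  rw [(mul_eq_zero.1 this).resolve_left hc.ne_zero, map_zero, zero_mul]

theorem isTorsionFree_sub (hn : 1 ≤ n) {r : ℕ} (P : Submodule (Rn R n) (Fin r → Rn R n)) :
    Module.IsTorsionFree R P := by
  haveI := isTorsionFree_Rn (R := R) hn
  exact Function.Injective.moduleIsTorsionFree (P.subtype.restrictScalars R) Subtype.val_injective
    (fun _ _ => rfl)

/-- The surjection from a free module and its kernel. -/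
theorem exists_presentation (M : Type u) [AddCommGroup M] [Module (Rn R n) M] [Module.Finite (Rn R n) M] :
    ∃ (r : ℕ) (φ : (Fin r → Rn R n) →ₗ[Rn R n] M), Function.Surjective φ :=
  Module.Finite.exists_fin' _ _

theorem subsingleton_ext (hn : 1 ≤ n) : ∀ (i : ℕ) (M : Type u) [AddCommGroup M] [Module (Rn R n) M]
    [Module R M] [IsScalarTower R (Rn R n) M] [Module.Finite (Rn R n) M] [Module.IsTorsionFree R M],
    Subsingleton (Ext (ModuleCat.of (Rn R n) M) (ModuleCat.of (Rn R n) (Rn R n)) (i + 1)) := by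
  intro i
  induction i with
  | zero =>
    intro M _ _ _ _ _ _
    obtain ⟨r, φ, hφ⟩ := exists_presentation (R := R) (n := n) M
    have hS := LinearMap.shortExact_shortComplexKer hφ
    haveI : Projective φ.shortComplexKer.X₂ :=
      (IsProjective.iff_projective (R := Rn R n) (Fin r → Rn R n)).1 inferInstance
    refine subsingleton_of_forall_eq 0 fun x => ?_
    obtain ⟨x₁, rfl⟩ := Ext.contravariant_sequence_exact₃ hS _ x (Ext.eq_zero_of_projective _) (n₀ := 0) rfl
    obtain ⟨ψ, rfl⟩ := (Ext.mk₀_bijective _ _).2 x₁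
    obtain ⟨χ, hχ⟩ := dualMap_surjective (R := R) hn (LinearMap.ker φ).subtype φ Subtype.val_injective hφ
      (Submodule.range_subtype _) ψ.hom
    have hψ : φ.shortComplexKer.f ≫ ModuleCat.ofHom χ = ψ := ModuleCat.hom_ext hχ
    rw [← hψ, ← Ext.mk₀_comp_mk₀, ← Ext.comp_assoc (hS.extClass) (Ext.mk₀ φ.shortComplexKer.f) _
      (rfl : 1 + 0 = 1) (zero_add 0) (rfl : 1 + 0 + 0 = 1), hS.extClass_comp, Ext.zero_comp]
  | succ i ih =>
    intro M _ _ _ _ _ _
    obtain ⟨r, φ, hφ⟩ := exists_presentation (R := R) (n := n) M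
    have hS := LinearMap.shortExact_shortComplexKer hφ
    haveI : Projective φ.shortComplexKer.X₂ :=
      (IsProjective.iff_projective (R := Rn R n) (Fin r → Rn R n)).1 inferInstance
    haveI : IsNoetherian (Rn R n) (Fin r → Rn R n) := inferInstance
    haveI : Module.IsTorsionFree R (LinearMap.ker φ) := isTorsionFree_sub hn _
    haveI := ih (LinearMap.ker φ)
    refine subsingleton_of_forall_eq 0 fun x => ?_
    obtain ⟨x₁, rfl⟩ := Ext.contravariant_sequence_exact₃ hS _ x (Ext.eq_zero_of_projective _)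
      (n₀ := i + 1) (by omega)
    rw [show x₁ = 0 from Subsingleton.elim _ _, Ext.comp_zero]

theorem isTorsionFree_of_ext (hn : 1 ≤ n) (M : Type u) [AddCommGroup M] [Module (Rn R n) M]
    [Module R M] [IsScalarTower R (Rn R n) M] [Module.Finite (Rn R n) M]
    (h : Subsingleton (Ext (ModuleCat.of (Rn R n) M) (ModuleCat.of (Rn R n) (Rn R n)) 1)) :
    Module.IsTorsionFree R M := by
  classical
  obtain ⟨r, φ, hφ⟩ := exists_presentation (R := R) (n := n) M
  have hS := LinearMap.shortExact_shortComplexKer hφ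
  haveI : Module.Finite R (Fin r → Rn R n) := finite_R hn
  haveI : IsNoetherian R (Fin r → Rn R n) := isNoetherian_of_isNoetherianRing_of_finite R _
  haveI : Module.IsTorsionFree R (Rn R n) := isTorsionFree_Rn hn
  haveI : Module.Finite R (LinearMap.ker φ) :=
    Module.Finite.of_injective ((LinearMap.ker φ).subtype.restrictScalars R) Subtype.val_injective
  let b := Module.Free.chooseBasis R (LinearMap.ker φ)
  refine Module.IsTorsionFree.mk fun c hc => ?_
  rw [isSMulRegular_iff_right_eq_zero_of_smul]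
  intro u hu
  obtain ⟨x, rfl⟩ := hφ u
  have hx : c • x ∈ LinearMap.ker φ := by
    rw [LinearMap.mem_ker, LinearMap.map_smul_of_tower, hu]
  have hext : ∀ j, ∃ G : (Fin r → Rn R n) →ₗ[R] R, ∀ y : LinearMap.ker φ, G y = b.coord j y := by
    intro j
    let ψ : φ.shortComplexKer.X₁ ⟶ ModuleCat.of (Rn R n) (Rn R n) := ModuleCat.ofHom (ofR hn (b.coord j))
    obtain ⟨x₂, hx₂⟩ := Ext.contravariant_sequence_exact₁ hS (ModuleCat.of (Rn R n) (Rn R n))
      (Ext.mk₀ ψ) (n₁ := 1) rfl (Subsingleton.elim (h := h) _ _)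
    obtain ⟨G, rfl⟩ := (Ext.mk₀_bijective _ _).2 x₂
    rw [Ext.mk₀_comp_mk₀] at hx₂
    have he := (Ext.mk₀_bijective _ _).1 hx₂
    refine ⟨(lam n).comp (G.hom.restrictScalars R), fun y => ?_⟩
    have := LinearMap.congr_fun (congrArg ModuleCat.Hom.hom he) y
    change G.hom (y : Fin r → Rn R n) = ofR hn (b.coord j) y at this
    rw [LinearMap.comp_apply, LinearMap.restrictScalars_apply, this, lam_ofR]
  choose G hG using hext
  let y : LinearMap.ker φ := ∑ j, G j x • b j
  have hy : c • y = ⟨c • x, hx⟩ := by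
    conv_rhs => rw [← b.sum_repr ⟨c • x, hx⟩]
    rw [Finset.smul_sum]
    refine Finset.sum_congr rfl fun j _ => ?_
    rw [← b.coord_apply, ← hG j, smul_smul, map_smul, smul_eq_mul]
  have hyx : (y : Fin r → Rn R n) = x := by
    have := congrArg Subtype.val hy
    rw [Submodule.coe_smul_of_tower] at this
    exact hc.isSMulRegular this
  rw [← hyx]
  exact y.2

/-- `z^(n-1)` factors through a free module on a torsion-free module. -/
theorem exists_factor (hn : 1 ≤ n) (M : Type u) [AddCommGroup M] [Module (Rn R n) M] [Module R M]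
    [IsScalarTower R (Rn R n) M] [Module.Finite (Rn R n) M] [Module.IsTorsionFree R M] :
    ∃ (r : ℕ) (α : M →ₗ[Rn R n] (Fin r → Rn R n)) (β : (Fin r → Rn R n) →ₗ[Rn R n] M),
      β.comp α = z R n ^ (n - 1) • LinearMap.id := by
  classical
  haveI := finite_R (R := R) (M := M) hn
  haveI : IsNoetherian R M := isNoetherian_of_isNoetherianRing_of_finite R M
  set W := z R n ^ (n - 1)
  let L : M →ₗ[R] M := (W • (LinearMap.id : M →ₗ[Rn R n] M)).restrictScalars R
  haveI : Module.Finite R (LinearMap.range L) := inferInstance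
  let b := Module.finBasis R (LinearMap.range L)
  choose e he using fun j => (b j).2
  let ε : Fin (Module.finrank R (LinearMap.range L)) → (M →ₗ[R] R) := fun j => (b.coord j).comp L.rangeRestrict
  have hε : ∀ j i m, 1 ≤ i → ε j (z R n ^ i • m) = 0 := fun j i m hi => by
    have : L.rangeRestrict (z R n ^ i • m) = 0 := Subtype.ext (by
      change W • z R n ^ i • m = 0
      rw [smul_smul, ← pow_add]
      exact z_pow_smul (by omega) m)
    simp only [ε, LinearMap.comp_apply, this, map_zero]
  let β := (Pi.basisFun (Rn R n) (Fin (Module.finrank R (LinearMap.range L)))).constr ℕ e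
  refine ⟨_, LinearMap.pi fun j => ofR hn (ε j), β, LinearMap.ext fun m => ?_⟩
  have hα : ∀ j, ofR hn (ε j) m = algebraMap R (Rn R n) (ε j m) * W := fun j => by
    rw [ofR_apply, Finset.sum_eq_single (n - 1)]
    · rw [Nat.sub_self, pow_zero, one_smul]
    · intro i hi hne
      rw [Finset.mem_range] at hi
      rw [hε j _ m (by omega), map_zero, zero_mul]
    · intro h; exact absurd (Finset.mem_range.2 (by omega)) h
  rw [LinearMap.comp_apply, Module.Basis.constr_apply_fintype]
  simp only [Pi.basisFun_equivFun, LinearEquiv.refl_apply, LinearMap.pi_apply, hα]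
  change _ = W • m
  have h := congrArg Subtype.val (b.sum_repr (L.rangeRestrict m))
  rw [AddSubmonoidClass.coe_finsetSum] at h
  change _ = W • m at h
  rw [← h]
  refine Finset.sum_congr rfl fun j _ => ?_
  rw [mul_smul, smul_eq, Submodule.coe_smul_of_tower]
  exact congrArg _ (he j)

theorem smul_eq_zero_of_factor {A : Type u} [CommRing A] {M P N : ModuleCat.{u} A} [Projective P]
    (c : A) (α : M ⟶ P) (β : P ⟶ M) (h : α ≫ β = c • 𝟙 M) (i : ℕ) (x : Ext M N (i + 1)) :
    c • x = 0 := by
  have e : (Ext.mk₀ (c • 𝟙 M)).comp x (zero_add _) = c • x := by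
    rw [Ext.mk₀_smul, Ext.smul_comp, Ext.mk₀_id_comp]
  rw [← e, ← h, ← Ext.mk₀_comp_mk₀, Ext.comp_assoc (Ext.mk₀ _) (Ext.mk₀ _) x (zero_add 0)
    (zero_add (i + 1)) (by omega), Ext.eq_zero_of_projective ((Ext.mk₀ β).comp x (zero_add _)), Ext.comp_zero]

theorem z_pow_smul_ext (hn : 1 ≤ n) (M : Type u) [AddCommGroup M] [Module (Rn R n) M] [Module R M]
    [IsScalarTower R (Rn R n) M] [Module.Finite (Rn R n) M] [Module.IsTorsionFree R M]
    (N : ModuleCat.{u} (Rn R n)) (i : ℕ) (x : Ext (ModuleCat.of (Rn R n) M) N (i + 1)) :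
    z R n ^ (n - 1) • x = 0 := by
  obtain ⟨r, α, β, h⟩ := exists_factor (R := R) hn M
  haveI : Projective (ModuleCat.of (Rn R n) (Fin r → Rn R n)) :=
    (IsProjective.iff_projective (R := Rn R n) (Fin r → Rn R n)).1 inferInstance
  exact smul_eq_zero_of_factor (z R n ^ (n - 1)) (ModuleCat.ofHom α) (ModuleCat.ofHom β) (ModuleCat.hom_ext h) i x

theorem exists_shift (hn : 1 ≤ n) (M : Type u) [AddCommGroup M] [Module (Rn R n) M]
    [Module.Finite (Rn R n) M] (N : ModuleCat.{u} (Rn R n)) (i : ℕ) :
    ∃ (r : ℕ) (K : Submodule (Rn R n) (Fin r → Rn R n)), Module.IsTorsionFree R K ∧ Module.Finite (Rn R n) K ∧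
      ∃ δ : Ext (ModuleCat.of (Rn R n) M) (ModuleCat.of (Rn R n) K) 1,
        ∀ x : Ext (ModuleCat.of (Rn R n) M) N (i + 2), ∃ y : Ext (ModuleCat.of (Rn R n) K) N (i + 1),
          δ.comp y (show 1 + (i + 1) = i + 2 by omega) = x := by
  obtain ⟨r, φ, hφ⟩ := exists_presentation (R := R) (n := n) M
  have hS := LinearMap.shortExact_shortComplexKer hφ
  haveI : Projective φ.shortComplexKer.X₂ :=
    (IsProjective.iff_projective (R := Rn R n) (Fin r → Rn R n)).1 inferInstance
  haveI : IsNoetherian (Rn R n) (Fin r → Rn R n) := inferInstance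
  refine ⟨r, LinearMap.ker φ, isTorsionFree_sub hn _, inferInstance, hS.extClass, fun x => ?_⟩
  exact Ext.contravariant_sequence_exact₃ hS _ x (Ext.eq_zero_of_projective _) _

end Groth.Agent.MultCrvLib
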